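import Mathlib
import Groth.Prelude.Def_HRes
import Groth.Agent.Lib.Helper9.FE.HpullComp

/-! helper2: `Ext.mapExactFunctor` along the identity functor, and consequences for a functor
isomorphic to the identity. -/

set_option autoImplicit false
universe w w' v v' u u'
open CategoryTheory CategoryTheory.Limits Abelian

namespace Groth.Agent.Helper2.HResLib

section General

variable {C : Type u} [Category.{v} C] [Abelian C] [HasExt.{w} C] [EnoughInjectives C]

theorem mapExactFunctor_id : ∀ (n : ℕ) {X Y : C} (x : Ext.{w} X Y n),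
    x.mapExactFunctor (𝟭 C) = x := by
  intro n
  induction n with
  | zero =>
    intro X Y x
    obtain ⟨f, rfl⟩ := (Ext.mk₀_bijective X Y).2 x
    rw [Ext.mapExactFunctor_mk₀]
    rfl
  | succ n ih =>
    intro X Y x
    let I : InjectivePresentation Y := Classical.arbitrary _
    let S : ShortComplex C := ShortComplex.mk I.f (cokernel.π I.f) (cokernel.condition I.f)
    haveI : Mono I.f := I.mono
    have hS : S.ShortExact := { exact := ShortComplex.exact_cokernel I.f }
    have h0 : x.comp (Ext.mk₀ S.f) (add_zero (n + 1)) = 0 := by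
      haveI : Injective S.X₂ := I.injective
      exact Ext.eq_zero_of_injective _
    obtain ⟨x₁, rfl⟩ := Ext.covariant_sequence_exact₁ X hS x h0 (rfl : n + 1 = n + 1)
    have e1 : (x₁.comp hS.extClass (rfl : n + 1 = n + 1)).mapExactFunctor (𝟭 C) =
        (x₁.mapExactFunctor (𝟭 C)).comp (hS.map_of_exact (𝟭 C)).extClass
          (rfl : n + 1 = n + 1) := by
      refine (Ext.mapExactFunctor_comp (𝟭 C) _ _ _).trans ?_
      exact congrArg (fun z => (x₁.mapExactFunctor (𝟭 C)).comp z
        (rfl : n + 1 = n + 1)) (Ext.mapExactFunctor_extClass (𝟭 C) hS)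
    rw [e1, ih x₁]
    rfl

end General

end Groth.Agent.Helper2.HResLib
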