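import Mathlib
import Groth.Prelude.Def_HRes
import Groth.Agent.Lib.Helper2.HRes.MapId

/-! helper2: the constant-sheaf isomorphisms `HRes.pullConst` are compatible with the identity and
composition isomorphisms of `overMapPullback`. -/

set_option autoImplicit false
universe u
open CategoryTheory CategoryTheory.Limits Abelian AlgebraicGeometry Opposite

namespace Groth.Agent.Helper2.HResLib

variable (K : Precoverage Scheme.{u})

/-- the defining property of `pullConst.inv`. -/
theorem toSheafify_pullConst_inv {S T : Scheme.{u}} (f : T ⟶ S) (M : AddCommGrpCat.{u + 1}) :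
    toSheafify (QuotSh.J K T) ((Functor.const _).obj M) ≫ (HRes.pullConst K f M).inv.hom =
      Functor.whiskerLeft (Over.map f).op
        (toSheafify (QuotSh.J K S) ((Functor.const _).obj M)) :=
  (Over.map f).toSheafify_pullbackSheafificationCompatibility AddCommGrpCat.{u + 1}
    (QuotSh.J K T) (QuotSh.J K S) ((Functor.const _).obj M)

theorem pullConst_id (S : Scheme.{u}) (M : AddCommGrpCat.{u + 1}) :
    (HRes.pullConst K (𝟙 S) M).inv ≫
      (K.toGrothendieck.overMapPullbackId AddCommGrpCat.{u + 1} S).hom.app
        ((constantSheaf (QuotSh.J K S) AddCommGrpCat.{u + 1}).obj M) = 𝟙 _ := by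
  apply ObjectProperty.hom_ext
  apply sheafify_hom_ext _ _ _ ((constantSheaf (QuotSh.J K S) AddCommGrpCat.{u + 1}).obj M).property
  refine ((Category.assoc _ _ _).symm.trans ?_)
  refine (congrArg (fun z => z ≫ ((K.toGrothendieck.overMapPullbackId AddCommGrpCat.{u + 1} S).hom.app
        ((constantSheaf (QuotSh.J K S) AddCommGrpCat.{u + 1}).obj M)).hom)
        (toSheafify_pullConst_inv K (𝟙 S) M)).trans ?_
  apply NatTrans.ext
  funext U
  rw [NatTrans.comp_app, NatTrans.comp_app, Functor.whiskerLeft_app,
    GrothendieckTopology.overMapPullbackId_hom_app_hom_app]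
  refine ((toSheafify (QuotSh.J K S) ((Functor.const _).obj M)).naturality
    ((Over.mapId S).inv.app (Opposite.unop U)).op).symm.trans ?_
  refine (Category.id_comp _).trans ?_
  exact (Category.comp_id _).symm

theorem toSheafify_pullConst_inv_app {S T : Scheme.{u}} (f : T ⟶ S) (M : AddCommGrpCat.{u + 1})
    (U : (Over T)ᵒᵖ) :
    (toSheafify (QuotSh.J K T) ((Functor.const _).obj M)).app U ≫
        (HRes.pullConst K f M).inv.hom.app U =
      (toSheafify (QuotSh.J K S) ((Functor.const _).obj M)).app ((Over.map f).op.obj U) :=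
  congrArg (fun z => z.app U) (toSheafify_pullConst_inv K f M)

theorem pullConst_comp {S T T' : Scheme.{u}} (f : T ⟶ S) (g : T' ⟶ T)
    (M : AddCommGrpCat.{u + 1}) :
    (HRes.pullConst K g M).inv ≫
      (BigSite.pullBig K g AddCommGrpCat.{u + 1}).map (HRes.pullConst K f M).inv ≫
      (K.toGrothendieck.overMapPullbackComp AddCommGrpCat.{u + 1} g f).hom.app
        ((constantSheaf (QuotSh.J K S) AddCommGrpCat.{u + 1}).obj M) =
      (HRes.pullConst K (g ≫ f) M).inv := by
  apply ObjectProperty.hom_ext
  apply sheafify_hom_ext _ _ _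
    ((BigSite.pullBig K (g ≫ f) AddCommGrpCat.{u + 1}).obj
      ((constantSheaf (QuotSh.J K S) AddCommGrpCat.{u + 1}).obj M)).property
  apply NatTrans.ext
  funext U
  have h1 := toSheafify_pullConst_inv_app K g M U
  have h2 := toSheafify_pullConst_inv_app K f M ((Over.map g).op.obj U)
  have h3 := toSheafify_pullConst_inv_app K (g ≫ f) M U
  have h4 := (toSheafify (QuotSh.J K S) ((Functor.const _).obj M)).naturality
    ((Over.mapComp g f).hom.app (Opposite.unop U)).op
  have h5 := GrothendieckTopology.overMapPullbackComp_hom_app_hom_app K.toGrothendieck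
    AddCommGrpCat.{u + 1} g f ((constantSheaf (QuotSh.J K S) AddCommGrpCat.{u + 1}).obj M) U
  rw [NatTrans.comp_app, NatTrans.comp_app, h3]
  show _ ≫ ((HRes.pullConst K g M).inv.hom.app U ≫
    (HRes.pullConst K f M).inv.hom.app ((Over.map g).op.obj U) ≫
    ((K.toGrothendieck.overMapPullbackComp AddCommGrpCat.{u + 1} g f).hom.app
        ((constantSheaf (QuotSh.J K S) AddCommGrpCat.{u + 1}).obj M)).hom.app U) = _
  refine (Category.assoc _ _ _).symm.trans ?_
  refine (congrArg (fun z => z ≫ _) h1).trans ?_
  refine (Category.assoc _ _ _).symm.trans ?_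
  refine (congrArg (fun z => z ≫ _) h2).trans ?_
  refine (congrArg (fun z => _ ≫ z) h5).trans ?_
  exact h4.symm.trans (Category.id_comp _)

end Groth.Agent.Helper2.HResLib
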